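import Groth.Agent.L27.EtSite.DescSubsheaf
import Groth.Prelude.Def_EtBCD
import Mathlib.CategoryTheory.Sites.LeftExact
import Mathlib.CategoryTheory.Limits.Types.Pullbacks

/-! # Pullback of global sections of sheaves of sets -/

universe u

open CategoryTheory CategoryTheory.Limits AlgebraicGeometry Opposite

set_option backward.isDefEq.respectTransparency false
set_option backward.isDefEq.respectTransparency.types false
set_option backward.defeqAttrib.useBackward true
set_option linter.style.haveILetI false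

namespace Groth.L10.EtSecPull

open Groth.L27.EtSite Groth.L27.EtSite.DescSections

variable {X Y : Scheme.{u}} (h : Y ⟶ X)

/-- Pullback of global sections is natural. -/
theorem secPull_naturality {F G : EtDesc.Sh X} (u : F ⟶ G) (s : EtDesc.sect F (EtCoh.top X)) :
    EtDesc.secPull h G (u.hom.app (op (EtCoh.top X)) s) =
      ((EtDesc.pullSh h).map u).hom.app (op (EtCoh.top Y)) (EtDesc.secPull h F s) := by
  rw [DescSections.secPull_eq, DescSections.secPull_eq, se_map]
  exact (NatTrans.naturality_apply ((EtDesc.pullSh h).map u).hom (EtCore.bcTopIso h).inv.op _).symm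

/-- A global section in the image of a monomorphism after pullback is in the image. -/
theorem mem_range_of_injective (hinj : ∀ F : EtDesc.Sh X, Function.Injective (EtDesc.secPull h F))
    {F G : EtDesc.Sh X} (u : F ⟶ G) [Mono u] (ξ : EtDesc.sect ((EtDesc.pullSh h).obj F) (EtCoh.top Y))
    (hξ : ((EtDesc.pullSh h).map u).hom.app (op (EtCoh.top Y)) ξ ∈ Set.range (EtDesc.secPull h G)) :
    ξ ∈ Set.range (EtDesc.secPull h F) := by
  obtain ⟨s, hs⟩ := hξ
  have hpo : IsPushout u u (pushout.inl u u) (pushout.inr u u) := IsPushout.of_hasPushout u u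
  have hpb := (Adhesive.isPullback_of_isPushout_of_mono_left hpo).map
    (sheafToPresheaf X.smallEtaleTopology (Type (u + 1)) ⋙ (evaluation _ _).obj (op (EtCoh.top X)))
  have heq : (pushout.inl u u).hom.app (op (EtCoh.top X)) s = (pushout.inr u u).hom.app (op (EtCoh.top X)) s := by
    refine hinj _ ?_
    rw [secPull_naturality, secPull_naturality, hs]
    have := congr($(congrArg (fun m => ((EtDesc.pullSh h).map m).hom.app (op (EtCoh.top Y))) hpo.w) ξ)
    simp only [Functor.map_comp] at this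
    exact this
  obtain ⟨t, ht, -⟩ := Types.exists_of_isPullback hpb s s heq
  haveI := mono_pullSh_map h u
  refine ⟨t, injective_app ((EtDesc.pullSh h).map u) _ ?_⟩
  rw [← secPull_naturality, ← hs]
  exact congrArg _ ht

end Groth.L10.EtSecPull

namespace Groth.L10.EtSecPull

open Groth.L27.EtSite Groth.L27.EtSite.DescSections

variable {X Y Xb Yb : Scheme.{u}} (h : Y ⟶ X) (p : Xb ⟶ X) (hb : Yb ⟶ Xb) (pY : Yb ⟶ Y) (w : hb ≫ p = pY ≫ h)

theorem map_map' {S : Scheme.{u}} (G : EtDesc.Sh S) {A B C : S.Etale} (a : B ⟶ A) (b : C ⟶ B) (x : EtDesc.sect G A) :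
    G.obj.map b.op (G.obj.map a.op x) = G.obj.map (b ≫ a).op x := by
  rw [op_comp, FunctorToTypes.map_comp_apply]

/-- Pullback of global sections along a base change factors through the base change map. -/
theorem secPull_eq_baseChange (Fb : EtDesc.Sh Xb) (x : EtDesc.sect Fb (EtCoh.top Xb)) :
    EtDesc.secPull hb Fb x =
      ((EtDesc.pullSh hb).obj Fb).obj.map (EtCore.bcTopIso pY).inv.op
        ((EtBC.baseChange0Sh p h pY hb w Fb).hom.app (op (EtCoh.top Y))
          (EtDesc.secPull h ((EtDesc.pushSh p).obj Fb) (Fb.obj.map (EtCore.bcTopIso p).hom.op x))) := by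
  let G := (EtDesc.pullSh hb).obj Fb
  let A := (EtCoh.bc p).obj (EtCoh.top X)
  let φ := (EtDesc.pushSh p).map ((EtDesc.adjSh hb).unit.app Fb) ≫ (EtDesc.pushCompSh p hb).hom.app _ ≫
      (EtBC.pushCongrSh w).hom.app _ ≫ (EtDesc.pushCompSh h pY).inv.app _
  have hφ : (EtDesc.adjSh h).unit.app ((EtDesc.pushSh p).obj Fb) ≫ (EtDesc.pushSh h).map (EtBC.baseChange0Sh p h pY hb w Fb) = φ :=
    ((EtDesc.adjSh h).homEquiv_unit _ _ _).symm.trans (Equiv.apply_symm_apply _ _)
  set t := Fb.obj.map (EtCore.bcTopIso p).hom.op x with ht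
  obtain ⟨c, hc⟩ : ∃ c : (EtCoh.bc pY).obj ((EtCoh.bc h).obj (EtCoh.top X)) ⟶ (EtCoh.bc hb).obj A,
      φ.hom.app (op (EtCoh.top X)) t = G.obj.map c.op (((EtDesc.adjSh hb).unit.app Fb).hom.app (op A) t) := by
    simp only [φ, EtDesc.pushCompSh, EtBC.pushCongrSh]
    simp
    simp only [map_map']
    exact ⟨_, rfl⟩
  have h1 : (EtBC.baseChange0Sh p h pY hb w Fb).hom.app (op (EtCoh.top Y)) (EtDesc.secPull h ((EtDesc.pushSh p).obj Fb) t) =
      G.obj.map ((EtCoh.bc pY).map (EtCore.bcTopIso h).inv).op (φ.hom.app (op (EtCoh.top X)) t) := by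
    rw [← hφ, DescSections.secPull_eq]
    exact NatTrans.naturality_apply (EtBC.baseChange0Sh p h pY hb w Fb).hom (EtCore.bcTopIso h).inv.op _
  rw [h1, hc, map_map', map_map', DescSections.secPull_eq]
  have h2 : DescCan.se hb Fb (EtCoh.top Xb) x = G.obj.map ((EtCoh.bc hb).map (EtCore.bcTopIso p).inv).op
      (((EtDesc.adjSh hb).unit.app Fb).hom.app (op A) t) := by
    refine Eq.trans ?_ (NatTrans.naturality_apply ((EtDesc.adjSh hb).unit.app Fb).hom (EtCore.bcTopIso p).inv.op t)
    refine congrArg (((EtDesc.adjSh hb).unit.app Fb).hom.app (op (EtCoh.top Xb))) ?_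
    exact ((map_map' Fb _ _ x).trans (by simp)).symm
  rw [h2, map_map']
  exact congrArg (fun m : EtCoh.top Yb ⟶ (EtCoh.bc hb).obj A => G.obj.map m.op _)
    (((EtCore.bcTopIsTerminal hb).ofIso ((EtCoh.bc hb).mapIso (EtCore.bcTopIso p).symm)).hom_ext _ _)

theorem secPull_injective_bijective (w : hb ≫ p = pY ≫ h) :
    ((∀ F : EtDesc.Sh X, Function.Injective (EtDesc.secPull h F)) →
      (∀ Fb : EtDesc.Sh Xb, Mono (EtBC.baseChange0Sh p h pY hb w Fb)) →
      ∀ Fb : EtDesc.Sh Xb, Function.Injective (EtDesc.secPull hb Fb)) ∧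
    ((∀ F : EtDesc.Sh X, Function.Bijective (EtDesc.secPull h F)) →
      (∀ Fb : EtDesc.Sh Xb, IsIso (EtBC.baseChange0Sh p h pY hb w Fb)) →
      ∀ Fb : EtDesc.Sh Xb, Function.Bijective (EtDesc.secPull hb Fb)) := by
  have hG : ∀ (Fb : EtDesc.Sh Xb), Function.Bijective (((EtDesc.pullSh hb).obj Fb).obj.map (EtCore.bcTopIso pY).inv.op) :=
    fun Fb => (isIso_iff_bijective _).1 inferInstance
  have hF : ∀ (Fb : EtDesc.Sh Xb), Function.Bijective (Fb.obj.map (EtCore.bcTopIso p).hom.op) :=
    fun Fb => (isIso_iff_bijective _).1 inferInstance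
  refine ⟨fun hh hm Fb => ?_, fun hh hi Fb => ?_⟩
  · rw [funext (secPull_eq_baseChange h p hb pY w Fb)]
    haveI := hm Fb
    exact (hG Fb).1.comp ((injective_app _ _).comp ((hh _).comp (hF Fb).1))
  · rw [funext (secPull_eq_baseChange h p hb pY w Fb)]
    haveI := hi Fb
    haveI : IsIso (EtBC.baseChange0Sh p h pY hb w Fb).hom :=
      inferInstanceAs (IsIso ((sheafToPresheaf _ _).map (EtBC.baseChange0Sh p h pY hb w Fb)))
    exact (hG Fb).comp (((isIso_iff_bijective _).1 inferInstance).comp ((hh _).comp (hF Fb)))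

end Groth.L10.EtSecPull
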