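import Groth.Agent.L10.EtSecPull.Basic

/-! # Descent of properties of pullback of global sections along surjective morphisms -/

universe u

open CategoryTheory CategoryTheory.Limits AlgebraicGeometry Opposite

set_option backward.isDefEq.respectTransparency false
set_option backward.isDefEq.respectTransparency.types false
set_option backward.defeqAttrib.useBackward true
set_option linter.style.haveILetI false

namespace Groth.L10.EtSecPull

open Groth.L27.EtSite Groth.L27.EtSite.DescSections

variable {X Y Xb Yb : Scheme.{u}} (h : Y ⟶ X) (p : Xb ⟶ X) (hb : Yb ⟶ Xb) (pY : Yb ⟶ Y)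

/-- The unit of pullback along a surjective morphism is a monomorphism. -/
theorem mono_unit [Surjective p] (F : EtDesc.Sh X) : Mono ((EtDesc.adjSh p).unit.app F) := by
  haveI : Mono ((EtDesc.adjSh p).unit.app F).hom := (NatTrans.mono_iff_mono_app _).2 fun V =>
    (CategoryTheory.mono_iff_injective _).2 (EtaLocal.injective_eta p F V.unop)
  exact (sheafToPresheaf _ _).mono_of_mono_map (f := (EtDesc.adjSh p).unit.app F) this

/-- Injectivity and bijectivity of pullback of sections descend. -/
theorem secPull_descend [Surjective p] (w : hb ≫ p = pY ≫ h) :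
    ((∀ Fb : EtDesc.Sh Xb, Function.Injective (EtDesc.secPull hb Fb)) →
      ∀ F : EtDesc.Sh X, Function.Injective (EtDesc.secPull h F)) ∧
    ((∀ Fb : EtDesc.Sh Xb, Function.Bijective (EtDesc.secPull hb Fb)) →
      (∀ Fb : EtDesc.Sh Xb, Mono (EtBC.baseChange0Sh p h pY hb w Fb)) →
      ∀ F : EtDesc.Sh X, Function.Bijective (EtDesc.secPull h F)) := by
  have hF : ∀ (Fb : EtDesc.Sh Xb), Function.Bijective (Fb.obj.map (EtCore.bcTopIso p).hom.op) :=
    fun Fb => (isIso_iff_bijective _).1 inferInstance
  have hinj : (∀ Fb : EtDesc.Sh Xb, Function.Injective (EtDesc.secPull hb Fb)) →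
      ∀ F : EtDesc.Sh X, Function.Injective (EtDesc.secPull h F) := by
    intro hh F s t hst
    haveI := mono_unit p F
    apply injective_app ((EtDesc.adjSh p).unit.app F) (op (EtCoh.top X))
    obtain ⟨x, hx⟩ := (hF ((EtDesc.pullSh p).obj F)).2 (((EtDesc.adjSh p).unit.app F).hom.app (op (EtCoh.top X)) s)
    obtain ⟨y, hy⟩ := (hF ((EtDesc.pullSh p).obj F)).2 (((EtDesc.adjSh p).unit.app F).hom.app (op (EtCoh.top X)) t)
    refine hx.symm.trans ((congrArg _ (hh _ ?_)).trans hy)
    rw [secPull_eq_baseChange h p hb pY w, secPull_eq_baseChange h p hb pY w]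
    refine congrArg _ (congrArg _ ?_)
    refine (congrArg _ hx).trans (Eq.trans ?_ (congrArg _ hy).symm)
    exact (secPull_naturality h _ s).trans ((congrArg _ hst).trans (secPull_naturality h _ t).symm)
  refine ⟨hinj, fun hh hm F => ⟨hinj (fun Fb => (hh Fb).1) F, fun ξ => ?_⟩⟩
  haveI := mono_unit p F
  refine mem_range_of_injective h (hinj fun Fb => (hh Fb).1) ((EtDesc.adjSh p).unit.app F) ξ ?_
  let Fb := (EtDesc.pullSh p).obj F
  haveI := hm Fb
  have hG : Function.Bijective (((EtDesc.pullSh hb).obj Fb).obj.map (EtCore.bcTopIso pY).inv.op) :=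
    (isIso_iff_bijective _).1 inferInstance
  let η := ((EtDesc.pullSh h).map ((EtDesc.adjSh p).unit.app F)).hom.app (op (EtCoh.top Y)) ξ
  obtain ⟨x, hx⟩ := (hh Fb).2 (((EtDesc.pullSh hb).obj Fb).obj.map (EtCore.bcTopIso pY).inv.op
    ((EtBC.baseChange0Sh p h pY hb w Fb).hom.app (op (EtCoh.top Y)) η))
  rw [secPull_eq_baseChange h p hb pY w] at hx
  exact ⟨_, injective_app (EtBC.baseChange0Sh p h pY hb w Fb) _ (hG.1 hx)⟩

end Groth.L10.EtSecPull
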